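import Groth.Agent.Lib.Bootstrap27.Conditions
import Groth.Agent.Lib.CplLevelH7.Equiv
import Groth.Agent.Lib.Dlz27.FlatExtApps
import Groth.Agent.Lib.DQC.Pull

/-!
# The bootstrap conditions pass to the completion along `I`
-/

set_option autoImplicit false
universe u

open IsLocalRing TensorProduct Groth.Agent.LocCohLib

attribute [local instance] HasDerivedCategory.standard

noncomputable section

namespace Groth.Agent.Bootstrap27

variable {A : Type u} [CommRing A] [IsNoetherianRing A] (I : Ideal A)

theorem isNoetherianRing_hat : IsNoetherianRing (AdicCompletion I A) :=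
  haveI : IsNoetherianRing (A ⧸ I) :=
    isNoetherianRing_of_surjective A (A ⧸ I) (Ideal.Quotient.mk I) Ideal.Quotient.mk_surjective
  Compl.isNoetherianRing_adicCompletion I (IsNoetherian.noetherian I)

theorem exists_sub_mem_hat (x : AdicCompletion I A) :
    ∃ a : A, x - algebraMap A (AdicCompletion I A) a ∈ I.map (algebraMap A (AdicCompletion I A)) := by
  obtain ⟨a, ha⟩ := Ideal.Quotient.mk_surjective (AdicCompletion.evalOneₐ I x)
  refine ⟨a, ?_⟩
  rw [← AdicCompletion.ker_evalOneₐ_eq_map I (IsNoetherian.noetherian I), RingHom.mem_ker, map_sub]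
  show AdicCompletion.evalOneₐ I x - AdicCompletion.evalOneₐ I (algebraMap A _ a) = 0
  rw [AlgHom.commutes, ← ha, Ideal.Quotient.algebraMap_eq, sub_self]

theorem map_comap_hat (q : Ideal (AdicCompletion I A)) (hq : I.map (algebraMap A (AdicCompletion I A)) ≤ q) :
    (q.comap (algebraMap A (AdicCompletion I A))).map (algebraMap A (AdicCompletion I A)) = q := by
  refine le_antisymm Ideal.map_comap_le fun x hx => ?_
  obtain ⟨a, ha⟩ := exists_sub_mem_hat I x
  have hI : I ≤ q.comap (algebraMap A (AdicCompletion I A)) := Ideal.map_le_iff_le_comap.1 hq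
  have hax : algebraMap A (AdicCompletion I A) a ∈ q := by
    rw [show algebraMap A (AdicCompletion I A) a = x - (x - algebraMap A (AdicCompletion I A) a) by ring]
    exact q.sub_mem hx (hq ha)
  rw [show x = (x - algebraMap A (AdicCompletion I A) a) + algebraMap A (AdicCompletion I A) a by ring]
  exact Ideal.add_mem _ (Ideal.map_mono hI ha) (Ideal.mem_map_of_mem _ hax)

theorem exists_isDualizing_hat (hdc : ∃ ω : Dual.D A, Dual.IsDualizing A ω) :
    ∃ ω' : Dual.D (AdicCompletion I A), Dual.IsDualizing (AdicCompletion I A) ω' := by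
  obtain ⟨ω, hω⟩ := hdc
  haveI := isNoetherianRing_hat I
  haveI : DRing.HasLBaseChange (algebraMap A (AdicCompletion I A)) := DQC.hasLBaseChange _
  haveI := AdicCompletion.isAdicComplete_self I (IsNoetherian.noetherian I)
  refine ⟨_, Dlz27.isDualizing_LBaseChange_mod_ideal (algebraMap A (AdicCompletion I A))
    (RingHom.flat_algebraMap_iff.2 inferInstance) hω I (fun x => ?_) ?_ (IsAdicComplete.le_jacobson_bot _)⟩
  · obtain ⟨y, rfl⟩ := Ideal.Quotient.mk_surjective x
    obtain ⟨a, ha⟩ := exists_sub_mem_hat I y
    exact ⟨a, ((Ideal.Quotient.mk_eq_mk_iff_sub_mem _ _).2 ha).symm⟩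
  · ext a
    simp only [RingHom.mem_ker, RingHom.comp_apply, Ideal.Quotient.eq_zero_iff_mem,
      ← AdicCompletion.ker_evalOneₐ_eq_map I (IsNoetherian.noetherian I)]
    show AdicCompletion.evalOneₐ I (algebraMap A _ a) = 0 ↔ a ∈ I
    rw [AlgHom.commutes, Ideal.Quotient.algebraMap_eq, Ideal.Quotient.eq_zero_iff_mem]

omit [IsNoetherianRing A] in
theorem cdLE_map {B : Type u} [CommRing B] [IsNoetherianRing B] [Algebra A B] [IsNoetherianRing A] (d : ℕ)
    (hcd : LocCoh.CdLE A I d) : LocCoh.CdLE B (I.map (algebraMap A B)) d := fun N _ _ i hi => by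
  letI : Module A N := Module.compHom N (algebraMap A B)
  haveI : IsScalarTower A B N := IsScalarTower.of_algebraMap_smul fun _ _ => rfl
  exact (subsingleton_restrictScalars_iff B I N i).2 (hcd N i hi)

variable (q : PrimeSpectrum (AdicCompletion I A))

/-- The trace of `q` on `A`. -/
abbrev q₀ : PrimeSpectrum A := PrimeSpectrum.comap (algebraMap A (AdicCompletion I A)) q

/-- `A_{q₀} → Â_q`. -/
def locHat : Localization.AtPrime (q₀ I q).asIdeal →ₐ[A] Localization.AtPrime q.asIdeal :=
  { Localization.localRingHom (q₀ I q).asIdeal q.asIdeal (algebraMap A (AdicCompletion I A)) rfl with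
    commutes' := fun a => by
      show Localization.localRingHom (q₀ I q).asIdeal q.asIdeal (algebraMap A (AdicCompletion I A)) rfl (algebraMap A _ a) = _
      rw [Localization.localRingHom_to_map, ← IsScalarTower.algebraMap_apply] }

theorem locHat_isLocalHom : IsLocalHom (locHat I q).toRingHom :=
  Localization.isLocalHom_localRingHom (q₀ I q).asIdeal q.asIdeal (algebraMap A (AdicCompletion I A)) rfl

theorem locHat_flat : (locHat I q).toRingHom.Flat := by
  haveI := isNoetherianRing_hat I
  letI := (locHat I q).toRingHom.toAlgebra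
  haveI : IsScalarTower A (Localization.AtPrime (q₀ I q).asIdeal) (Localization.AtPrime q.asIdeal) :=
    .of_algebraMap_eq fun a => ((locHat I q).commutes a).symm
  haveI : Module.Flat A (Localization.AtPrime q.asIdeal) :=
    Module.Flat.trans A (AdicCompletion I A) (Localization.AtPrime q.asIdeal)
  exact (Module.flat_iff_of_isLocalization (Localization.AtPrime (q₀ I q).asIdeal) (q₀ I q).asIdeal.primeCompl _).2 this

variable (hq : I.map (algebraMap A (AdicCompletion I A)) ≤ q.asIdeal)
include hq

theorem map_maximalIdeal_locHat :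
    (maximalIdeal (Localization.AtPrime (q₀ I q).asIdeal)).map (locHat I q).toRingHom =
      maximalIdeal (Localization.AtPrime q.asIdeal) := by
  rw [← Localization.AtPrime.map_eq_maximalIdeal, ← Localization.AtPrime.map_eq_maximalIdeal, Ideal.map_map,
    show (locHat I q).toRingHom.comp (algebraMap A (Localization.AtPrime (q₀ I q).asIdeal)) =
      algebraMap A (Localization.AtPrime q.asIdeal) from (locHat I q).comp_algebraMap, IsScalarTower.algebraMap_eq A (AdicCompletion I A) (Localization.AtPrime q.asIdeal),
    ← Ideal.map_map]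
  exact congrArg _ (map_comap_hat I q.asIdeal hq)

theorem exists_locHat_sub_mem (y : Localization.AtPrime q.asIdeal) :
    ∃ b, y - locHat I q b ∈ I.map (algebraMap A (Localization.AtPrime q.asIdeal)) := by
  let T := Localization.AtPrime q.asIdeal
  let B := Localization.AtPrime (q₀ I q).asIdeal
  obtain ⟨⟨x, t⟩, hxt⟩ := IsLocalization.surj q.asIdeal.primeCompl y
  obtain ⟨a, ha⟩ := exists_sub_mem_hat I x
  obtain ⟨s, hs⟩ := exists_sub_mem_hat I t.1
  have hsq : s ∉ (q₀ I q).asIdeal := fun h => t.2 (by
    show t.1 ∈ q.asIdeal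
    rw [show t.1 = (t.1 - algebraMap A (AdicCompletion I A) s) + algebraMap A (AdicCompletion I A) s by ring]
    exact Ideal.add_mem _ (hq hs) h)
  let s' : (q₀ I q).asIdeal.primeCompl := ⟨s, hsq⟩
  refine ⟨IsLocalization.mk' B a s', ?_⟩
  have hu : IsUnit (algebraMap A T s) := by
    rw [← (locHat I q).commutes]
    exact (IsLocalization.map_units B s').map _
  rw [← Ideal.unit_mul_mem_iff_mem _ hu]
  have h1 : algebraMap A T s * locHat I q (IsLocalization.mk' B a s') = algebraMap A T a := by
    rw [← (locHat I q).commutes, ← map_mul,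
      show algebraMap A B s * IsLocalization.mk' B a s' = algebraMap A B a from IsLocalization.mk'_spec' B a s',
      AlgHom.commutes]
  have hmem : ∀ z ∈ I.map (algebraMap A (AdicCompletion I A)), algebraMap (AdicCompletion I A) T z ∈
      I.map (algebraMap A T) := fun z hz => by
    rw [IsScalarTower.algebraMap_eq A (AdicCompletion I A) T, ← Ideal.map_map]
    exact Ideal.mem_map_of_mem _ hz
  have h2 := hmem _ ha
  have h3 := hmem _ hs
  rw [map_sub, ← IsScalarTower.algebraMap_apply] at h2 h3
  have hxt' : y * algebraMap (AdicCompletion I A) T t.1 = algebraMap (AdicCompletion I A) T x := hxt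
  rw [mul_sub, h1, show algebraMap A T s * y - algebraMap A T a =
    (algebraMap (AdicCompletion I A) T x - algebraMap A T a) -
      y * (algebraMap (AdicCompletion I A) T t.1 - algebraMap A T s) by rw [← hxt']; ring]
  exact Ideal.sub_mem _ h2 (Ideal.mul_mem_left _ _ h3)

theorem lev_locHat_bijective (n : ℕ) : Function.Bijective (CplLevelH7.lev I (locHat I q) n) := by
  haveI := isNoetherianRing_hat I
  let T := Localization.AtPrime q.asIdeal
  let B := Localization.AtPrime (q₀ I q).asIdeal
  letI : Algebra B T := (locHat I q).toRingHom.toAlgebra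
  haveI : IsScalarTower A B T := .of_algebraMap_eq fun a => ((locHat I q).commutes a).symm
  haveI : IsLocalHom (algebraMap B T) := locHat_isLocalHom I q
  haveI : Module.Flat B T := locHat_flat I q
  haveI : Module.FaithfullyFlat B T := Module.FaithfullyFlat.of_flat_of_isLocalHom
  have hmap : ∀ m : ℕ, ((I.map (algebraMap A B)) ^ m).map (algebraMap B T) = (I.map (algebraMap A T)) ^ m :=
    fun m => by rw [Ideal.map_pow, Ideal.map_map, ← IsScalarTower.algebraMap_eq]
  refine ⟨(injective_iff_map_eq_zero _).2 fun x hx => ?_, ?_⟩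
  · obtain ⟨b, rfl⟩ := Ideal.Quotient.mk_surjective x
    rw [CplLevelH7.lev_mk, Ideal.Quotient.eq_zero_iff_mem, ← hmap] at hx
    rw [Ideal.Quotient.eq_zero_iff_mem, ← Ideal.comap_map_eq_self_of_faithfullyFlat (B := T)
      ((I.map (algebraMap A B)) ^ n)]
    exact hx
  · have key : ∀ (m : ℕ) (y : T), ∃ b : B, y - algebraMap B T b ∈ (I.map (algebraMap A T)) ^ m := by
      intro m
      induction m with
      | zero => exact fun y => ⟨0, by simp⟩
      | succ m ih =>
        have step : ∀ z ∈ (I.map (algebraMap A T)) ^ m, ∃ b : B, z - algebraMap B T b ∈ (I.map (algebraMap A T)) ^ (m + 1) := by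
          intro z hz
          rw [← hmap, Ideal.map] at hz
          induction hz using Submodule.span_induction with
          | mem w hw =>
            obtain ⟨g, hg, rfl⟩ := hw
            exact ⟨g, by rw [sub_self]; exact zero_mem _⟩
          | zero => exact ⟨0, by simp⟩
          | add w w' _ _ h h' =>
            obtain ⟨b, hb⟩ := h
            obtain ⟨b', hb'⟩ := h'
            exact ⟨b + b', by rw [map_add, add_sub_add_comm]; exact add_mem hb hb'⟩
          | smul r w hw h =>
            obtain ⟨b, hb⟩ := h
            obtain ⟨b', hb'⟩ := exists_locHat_sub_mem I q hq r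
            refine ⟨b' * b, ?_⟩
            have hw' : w ∈ (I.map (algebraMap A T)) ^ m := by rw [← hmap]; exact hw
            rw [smul_eq_mul, map_mul, show r * w - algebraMap B T b' * algebraMap B T b =
              (r - algebraMap B T b') * w + algebraMap B T b' * (w - algebraMap B T b) by ring]
            refine Ideal.add_mem _ ?_ (Ideal.mul_mem_left _ _ hb)
            rw [pow_succ']
            exact Ideal.mul_mem_mul hb' hw'
        intro y
        obtain ⟨b, hb⟩ := ih y
        obtain ⟨b', hb'⟩ := step _ hb
        exact ⟨b + b', by rw [map_add, sub_add_eq_sub_sub]; exact hb'⟩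
    intro y
    obtain ⟨y, rfl⟩ := Ideal.Quotient.mk_surjective y
    obtain ⟨b, hb⟩ := key n y
    exact ⟨Ideal.Quotient.mk _ b, by rw [CplLevelH7.lev_mk]; exact ((Ideal.Quotient.mk_eq_mk_iff_sub_mem _ _).2 hb).symm⟩

end Groth.Agent.Bootstrap27
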