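import Groth.Agent.Lib.Dlz27.Catenary
import Groth.Agent.Lib.Dlz27.SkCrit
import Groth.Agent.Lib.LocCoh.AdjDepth27
import Groth.Agent.Lib.LocCoh.AdjDepthBasics27
import Groth.Agent.Lib.LocCoh.Nonvanish
import Groth.Agent.Lib.LocCoh.Restrict
import Groth.Agent.Lib.LocCoh.Flat
import Groth.Agent.Lib.FlatDepth.AtPrime

/-!
# Depth plus dimension along flat maps with the same closed point, via annihilators of local cohomology
-/

set_option autoImplicit false
universe u

open CategoryTheory IsLocalRing TensorProduct Groth.Agent.LocCohLib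

attribute [local instance] HasDerivedCategory.standard

noncomputable section

namespace Groth.Agent.Bootstrap27

/-- `H^i_m(N)` is killed by an element outside `p` for `i < depth N_p + dim A/p`. -/
theorem exists_kills_H {A : Type u} [CommRing A] [IsNoetherianRing A] [IsLocalRing A] {ω : Dual.D A}
    (hω : Dual.IsDualizing A ω) (hn : Dual.IsNormalized A ω) (p : PrimeSpectrum A)
    (N : Type u) [AddCommGroup N] [Module A N] [Module.Finite A N] (c : ℕ)
    (hc : ((c : ℕ∞) : WithBot ℕ∞) ≤
      ((LocCoh.depth (Localization.AtPrime p.asIdeal) (LocalizedModule p.asIdeal.primeCompl N) : ℕ∞) : WithBot ℕ∞) +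
        ringKrullDim (A ⧸ p.asIdeal)) :
    ∃ f : A, f ∉ p.asIdeal ∧ ∀ i : ℕ, i < c → ∀ x : LocCoh.H (maximalIdeal A) i N, f • x = 0 := by
  classical
  let M := Dlz27.model hω
  obtain ⟨E, _, _, fE, hfE⟩ := InjHullLib.exists_injective_hull A (ResidueField A)
  obtain ⟨hle0, hdim⟩ := Dlz27.dim_quotient_normalized hω M hn p
  have key : ∀ i : ℕ, i < c → Dlz27.VanS M.W p.asIdeal.primeCompl N (-(i : ℤ)) := by
    intro i hi
    rcases subsingleton_or_nontrivial (LocalizedModule p.asIdeal.primeCompl N) with hs | hs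
    · exact Dlz27.vanS_of_subsingleton_localized p N _
    obtain ⟨d, e, -, he, -, -, -, hrange⟩ := Dlz27.exists_profile hω M p N
    rw [he, hdim] at hc
    have hc' : c ≤ e + (-Dlz27.deg hω M p).toNat := by exact_mod_cast hc
    by_contra hv
    have := (hrange _ hv).2
    omega
  have hkill : ∀ i : ℕ, ∃ s : A, s ∉ p.asIdeal ∧ (i < c → ∀ x : LocCoh.H (maximalIdeal A) i N, s • x = 0) := by
    intro i
    by_cases hi : i < c
    swap
    · exact ⟨1, p.isPrime.one_notMem, fun h => absurd h hi⟩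
    obtain ⟨e⟩ := Dlz27.exists_localDual M hω hn hfE N i
    have hv := key i hi
    rw [Dlz27.vanS_iff_hom] at hv
    obtain ⟨S, hS⟩ := Dlz27.finite_hom M hω N (-(i : ℤ)) |>.fg_top
    choose s hs using hv
    refine ⟨∏ φ ∈ S, (s φ : A), fun hmem => ?_, fun _ x => e.injective ?_⟩
    · obtain ⟨φ, -, hφ⟩ := (Ideal.IsPrime.prod_mem_iff).1 hmem
      exact (s φ).2 hφ
    · rw [map_smul, map_zero]
      refine LinearMap.ext_on hS fun φ hφ => ?_
      rw [LinearMap.smul_apply, LinearMap.zero_apply, ← map_smul, ← Finset.prod_erase_mul _ _ hφ, mul_smul, hs,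
        smul_zero, map_zero]
  choose s hsp hs using hkill
  refine ⟨∏ i ∈ Finset.range c, s i, fun hmem => ?_, fun i hi x => ?_⟩
  · obtain ⟨i, -, hi⟩ := (Ideal.IsPrime.prod_mem_iff).1 hmem
    exact hsp i hi
  · rw [← Finset.prod_erase_mul _ _ (Finset.mem_range.2 hi), mul_smul, hs i hi x, smul_zero]

/-- An element outside `P` killing `H^i_m(N)` for `i < c` bounds `depth N_P + dim B/P` below. -/
theorem le_depth_add_dim {B : Type u} [CommRing B] [IsNoetherianRing B] [IsLocalRing B] (P : PrimeSpectrum B)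
    (N : Type u) [AddCommGroup N] [Module B N] [Module.Finite B N] (f : B) (hf : f ∉ P.asIdeal) (c : ℕ)
    (hk : ∀ i : ℕ, i < c → ∀ x : LocCoh.H (maximalIdeal B) i N, f • x = 0) :
    ((c : ℕ∞) : WithBot ℕ∞) ≤
      ((LocCoh.depth (Localization.AtPrime P.asIdeal) (LocalizedModule P.asIdeal.primeCompl N) : ℕ∞) : WithBot ℕ∞) +
        ringKrullDim (B ⧸ P.asIdeal) := by
  have h1 : (c : ℕ∞) ≤ LocCoh.finDimRel (maximalIdeal B) (Ideal.span {f}) N := by
    refine le_iInf fun i => le_iInf fun hi => ?_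
    by_contra hlt
    rw [not_le, Nat.cast_lt] at hlt
    refine hi (le_trans ?_ Ideal.le_radical)
    rw [Ideal.span_le, Set.singleton_subset_iff]
    exact Module.mem_annihilator.2 (hk i hlt)
  have h2 := h1.trans (finDimRel_le_adjDepth (maximalIdeal B) (Ideal.span {f}) N P fun h =>
    hf (h (Ideal.mem_span_singleton_self f)))
  haveI : IsLocalRing (B ⧸ P.asIdeal) :=
    IsLocalRing.of_surjective' (Ideal.Quotient.mk P.asIdeal) Ideal.Quotient.mk_surjective
  have e : (maximalIdeal B ⊔ P.asIdeal).map (Ideal.Quotient.mk P.asIdeal) = maximalIdeal (B ⧸ P.asIdeal) := by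
    rw [sup_of_le_left (le_maximalIdeal P.isPrime.ne_top)]
    refine IsLocalRing.eq_maximalIdeal ?_
    exact (maximalIdeal.isMaximal B).map_of_surjective_of_ker_le Ideal.Quotient.mk_surjective
      (Ideal.mk_ker.trans_le (le_maximalIdeal P.isPrime.ne_top))
  rw [LocCoh.adjDepth, e] at h2
  rw [← IsLocalRing.maximalIdeal_height_eq_ringKrullDim]
  exact_mod_cast h2

/-- An element killing `H_I^i(M)` kills the local cohomology of the base change. -/
theorem smul_H_baseChange_eq_zero {R B : Type u} [CommRing R] [IsNoetherianRing R] [CommRing B] [IsNoetherianRing B]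
    [Algebra R B] [Module.Flat R B] (I : Ideal R) (J : Ideal B) (hJ : I.map (algebraMap R B) = J)
    (M : Type u) [AddCommGroup M] [Module R M] (i : ℕ) (f : R) (hk : ∀ x : LocCoh.H I i M, f • x = 0)
    (x : LocCoh.H J i (B ⊗[R] M)) : algebraMap R B f • x = 0 := by
  subst hJ
  obtain ⟨e⟩ := nonempty_baseChange_H (R' := B) I i M
  obtain ⟨y, rfl⟩ := e.surjective x
  rw [← map_smul, algebraMap_smul]
  have h0 : f • y = 0 := by
    induction y using TensorProduct.induction_on with
    | zero => exact smul_zero _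
    | tmul b z => rw [← TensorProduct.tmul_smul, hk z, TensorProduct.tmul_zero]
    | add a b ha hb => rw [smul_add, ha, hb, add_zero]
  rw [h0, map_zero]

/-- Along a flat map of Noetherian local rings with `m_R B = m_B`, `depth + dim` does not drop. -/
theorem depth_add_dim_le {R : Type u} [CommRing R] [IsNoetherianRing R] [IsLocalRing R] {ω : Dual.D R}
    (hω : Dual.IsDualizing R ω) (hn : Dual.IsNormalized R ω) {B : Type u} [CommRing B] [IsNoetherianRing B]
    [IsLocalRing B] [Algebra R B] [Module.Flat R B] (hm : (maximalIdeal R).map (algebraMap R B) = maximalIdeal B)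
    (M : Type u) [AddCommGroup M] [Module R M] [Module.Finite R M] (P : PrimeSpectrum B) (p : PrimeSpectrum R)
    (hp : P.asIdeal.comap (algebraMap R B) = p.asIdeal) :
    ((LocCoh.depth (Localization.AtPrime p.asIdeal) (LocalizedModule p.asIdeal.primeCompl M) : ℕ∞) : WithBot ℕ∞) +
        ringKrullDim (R ⧸ p.asIdeal) ≤
      ((LocCoh.depth (Localization.AtPrime P.asIdeal) (LocalizedModule P.asIdeal.primeCompl (B ⊗[R] M)) : ℕ∞) : WithBot ℕ∞) +
        ringKrullDim (B ⧸ P.asIdeal) := by
  have step : ∀ c : ℕ, ((c : ℕ∞) : WithBot ℕ∞) ≤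
      ((LocCoh.depth (Localization.AtPrime p.asIdeal) (LocalizedModule p.asIdeal.primeCompl M) : ℕ∞) : WithBot ℕ∞) +
        ringKrullDim (R ⧸ p.asIdeal) → ((c : ℕ∞) : WithBot ℕ∞) ≤
      ((LocCoh.depth (Localization.AtPrime P.asIdeal) (LocalizedModule P.asIdeal.primeCompl (B ⊗[R] M)) : ℕ∞) : WithBot ℕ∞) +
        ringKrullDim (B ⧸ P.asIdeal) := by
    intro c hc
    obtain ⟨f, hf, hk⟩ := exists_kills_H hω hn p M c hc
    exact le_depth_add_dim P (B ⊗[R] M) (algebraMap R B f) (fun h => hf (hp ▸ Ideal.mem_comap.2 h)) c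
      fun i hi x => smul_H_baseChange_eq_zero (maximalIdeal R) (maximalIdeal B) hm M i f (hk i hi) x
  have hR : ∃ a : ℕ∞, (a : WithBot ℕ∞) = ringKrullDim (R ⧸ p.asIdeal) := WithBot.ne_bot_iff_exists.1 fun h =>
    absurd (ringKrullDim_nonneg_of_nontrivial (R := R ⧸ p.asIdeal)) (by rw [h]; simp)
  have hB : ∃ a : ℕ∞, (a : WithBot ℕ∞) = ringKrullDim (B ⧸ P.asIdeal) := WithBot.ne_bot_iff_exists.1 fun h =>
    absurd (ringKrullDim_nonneg_of_nontrivial (R := B ⧸ P.asIdeal)) (by rw [h]; simp)
  obtain ⟨a, ha⟩ := hR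
  obtain ⟨b, hb⟩ := hB
  rw [← ha, ← hb] at step ⊢
  norm_cast at step ⊢
  exact ENat.forall_natCast_le_iff_le.1 step

/-- Depth at a prime does not drop along a flat map. -/
theorem depth_le_baseChange {R : Type u} [CommRing R] [IsNoetherianRing R] {B : Type u} [CommRing B]
    [IsNoetherianRing B] [Algebra R B] [Module.Flat R B] (M : Type u) [AddCommGroup M] [Module R M] [Module.Finite R M]
    (P : PrimeSpectrum B) :
    LocCoh.depth (Localization.AtPrime (P.asIdeal.comap (algebraMap R B)))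
        (LocalizedModule (P.asIdeal.comap (algebraMap R B)).primeCompl M) ≤
      LocCoh.depth (Localization.AtPrime P.asIdeal) (LocalizedModule P.asIdeal.primeCompl (B ⊗[R] M)) := by
  rw [(FlatDepth.atPrime_invariants (A := R) (B := B) (F := B) (E := M) (q := P.asIdeal)).1]
  exact le_self_add

end Groth.Agent.Bootstrap27
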