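import Mathlib.RingTheory.AdicCompletion.LocalRing
import Mathlib.RingTheory.AdicCompletion.AsTensorProduct
import Mathlib.RingTheory.AdicCompletion.Completeness
import Mathlib.RingTheory.LocalRing.RingHom.Basic
import Groth.Agent.Lib.Compl.Noetherian

/-!
# Completion of a localization along an ideal
-/

set_option autoImplicit false
universe u

open IsLocalRing TensorProduct

noncomputable section

namespace Groth.Agent.Bootstrap27

variable {R : Type u} [CommRing R] [IsNoetherianRing R] [IsLocalRing R] (J : Ideal R)

theorem isNoetherianRing_cplJ : IsNoetherianRing (AdicCompletion J R) :=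
  haveI : IsNoetherianRing (R ⧸ J) :=
    isNoetherianRing_of_surjective R (R ⧸ J) (Ideal.Quotient.mk J) Ideal.Quotient.mk_surjective
  Compl.isNoetherianRing_adicCompletion J (IsNoetherian.noetherian J)

/-- The completion is local with maximal ideal the extended one. -/
theorem isLocalRing_cplJ (hJ : J ≤ maximalIdeal R) :
    ∃ _ : IsLocalRing (AdicCompletion J R),
      (maximalIdeal R).map (algebraMap R (AdicCompletion J R)) = maximalIdeal (AdicCompletion J R) := by
  have hfg : J.FG := IsNoetherian.noetherian J
  let M := (maximalIdeal R).map (algebraMap R (AdicCompletion J R))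
  have hM : M.IsMaximal := AdicCompletion.isMaximal_map_of_le _ _ hJ hfg
  haveI := AdicCompletion.isAdicComplete_self J hfg
  have huniq : ∀ N : Ideal (AdicCompletion J R), N.IsMaximal → N = M := fun N hN => by
    have hJN : J.map (algebraMap R _) ≤ N := (IsAdicComplete.le_jacobson_bot _).trans (sInf_le ⟨bot_le, hN⟩)
    have hker : RingHom.ker (AdicCompletion.evalOneₐ J).toRingHom ≤ N :=
      (AdicCompletion.ker_evalOneₐ_eq_map J hfg).le.trans hJN
    have hsurj : Function.Surjective (AdicCompletion.evalOneₐ J).toRingHom :=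
      AdicCompletion.evalOneₐ_surjective J
    haveI : Nontrivial (R ⧸ J) := Ideal.Quotient.nontrivial_iff.2 fun h =>
      (maximalIdeal.isMaximal R).ne_top (top_le_iff.1 (h ▸ hJ))
    haveI : IsLocalRing (R ⧸ J) :=
      IsLocalRing.of_surjective' (Ideal.Quotient.mk J) Ideal.Quotient.mk_surjective
    have hmax : ∀ P : Ideal (AdicCompletion J R), P.IsMaximal →
        RingHom.ker (AdicCompletion.evalOneₐ J).toRingHom ≤ P →
        P = (maximalIdeal (R ⧸ J)).comap (AdicCompletion.evalOneₐ J).toRingHom := fun P hP hkP => by
      have := Ideal.IsMaximal.map_of_surjective_of_ker_le hsurj (m := P) hkP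
      rw [← IsLocalRing.eq_maximalIdeal this, Ideal.comap_map_of_surjective' _ hsurj, sup_eq_left.2 hkP]
    rw [hmax N hN hker, hmax M hM ((AdicCompletion.ker_evalOneₐ_eq_map J hfg).le.trans (Ideal.map_mono hJ))]
  exact ⟨IsLocalRing.of_unique_max_ideal ⟨M, hM, huniq⟩, by
    haveI := IsLocalRing.of_unique_max_ideal ⟨M, hM, huniq⟩
    exact (IsLocalRing.eq_maximalIdeal hM)⟩

omit [IsLocalRing R] in
/-- The completion of a finite module is the base change. -/
theorem nonempty_cpl_tensor_equiv (A : Type u) [CommRing A] [Algebra A R] (q : Submonoid A) [IsLocalization q R]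
    (M : Type u) [AddCommGroup M] [Module A M] [Module.Finite A M] (N : Type u) [AddCommGroup N] [Module A N]
    [Module R N] [IsScalarTower A R N] (ι : M →ₗ[A] N) [IsLocalizedModule q ι] :
    Nonempty (AdicCompletion J R ⊗[A] M ≃ₗ[AdicCompletion J R] AdicCompletion J N) := by
  haveI : Module.Finite R N := Module.Finite.of_isLocalizedModule q ι
  let e₁ : R ⊗[A] M ≃ₗ[R] N := (IsLocalizedModule.isBaseChange q R ι).equiv
  exact ⟨((AlgebraTensorModule.cancelBaseChange A R (AdicCompletion J R) (AdicCompletion J R) M).symm.trans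
    (AlgebraTensorModule.congr (LinearEquiv.refl _ _) e₁)).trans
      (AdicCompletion.ofTensorProductEquivOfFiniteNoetherian J N)⟩

end Groth.Agent.Bootstrap27
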