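import Groth.Prelude.Def_Formal2
import Groth.Agent.Lib.Bootstrap27.Basic
import Groth.Agent.Lib.Bootstrap27.Completion

/-!
# The depth conditions of the bootstrap
-/

set_option autoImplicit false
universe u

open IsLocalRing TensorProduct Groth.Agent.LocCohLib

attribute [local instance] HasDerivedCategory.standard

noncomputable section

namespace Groth.Agent.Bootstrap27

variable {A : Type u} [CommRing A] [IsNoetherianRing A] (I : Ideal A) (M : Type u) [AddCommGroup M] [Module A M]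
  [Module.Finite A M]

/-- `I A_q`. -/
abbrev Iq (q : PrimeSpectrum A) : Ideal (Localization.AtPrime q.asIdeal) :=
  I.map (algebraMap A (Localization.AtPrime q.asIdeal))

/-- The completion of `A_q` along `I`. -/
abbrev Cq (q : PrimeSpectrum A) : Type u := AdicCompletion (Iq I q) (Localization.AtPrime q.asIdeal)

theorem isNoetherianRing_Cq (q : PrimeSpectrum A) : IsNoetherianRing (Cq I q) := isNoetherianRing_cplJ _

theorem flat_Cq (q : PrimeSpectrum A) : Module.Flat A (Cq I q) :=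
  Module.Flat.trans A (Localization.AtPrime q.asIdeal) _

theorem depth_cplModule (q : PrimeSpectrum A) (P : PrimeSpectrum (Cq I q)) :
    LocCoh.depth (Localization.AtPrime P.asIdeal)
        (LocalizedModule P.asIdeal.primeCompl (Cq I q ⊗[A] M)) =
      LocCoh.depth (Localization.AtPrime P.asIdeal)
        (LocalizedModule P.asIdeal.primeCompl (AdicCompletion (Iq I q) (LocalizedModule q.asIdeal.primeCompl M))) := by
  obtain ⟨e⟩ := nonempty_cpl_tensor_equiv (Iq I q) A q.asIdeal.primeCompl M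
    (LocalizedModule q.asIdeal.primeCompl M) (LocalizedModule.mkLinearMap q.asIdeal.primeCompl M)
  exact DepthLib.idealDepth_congr (IsLocalizedModule.mapEquiv P.asIdeal.primeCompl
    (LocalizedModule.mkLinearMap P.asIdeal.primeCompl _) (LocalizedModule.mkLinearMap P.asIdeal.primeCompl _)
    (Localization.AtPrime P.asIdeal) e)

theorem comap_le_of_Cq (q : PrimeSpectrum A) (P : PrimeSpectrum (Cq I q)) :
    P.asIdeal.comap (algebraMap A (Cq I q)) ≤ q.asIdeal := by
  intro a ha
  by_contra hq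
  refine P.isPrime.ne_top (Ideal.eq_top_of_isUnit_mem _ (Ideal.mem_comap.1 ha) ?_)
  rw [IsScalarTower.algebraMap_apply A (Localization.AtPrime q.asIdeal) (Cq I q)]
  exact (IsLocalization.map_units (Localization.AtPrime q.asIdeal) (⟨a, hq⟩ : q.asIdeal.primeCompl)).map _

/-- Over a prime with no prime strictly inside `V(I)` above it, there is a prime of the completion of the
closed-point type. -/
theorem exists_prime_Cq (p r : PrimeSpectrum A) (hpr : p ≤ r)
    (hr : r.asIdeal ∈ (p.asIdeal ⊔ I).minimalPrimes) :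
    ∃ P : PrimeSpectrum (Cq I r), P.asIdeal.comap (algebraMap A (Cq I r)) = p.asIdeal ∧
      ∀ Q : PrimeSpectrum (Cq I r), P ≤ Q → I.map (algebraMap A (Cq I r)) ≤ Q.asIdeal → Q.asIdeal.IsMaximal := by
  let R := Localization.AtPrime r.asIdeal
  have hIr : I ≤ r.asIdeal := le_sup_right.trans hr.1.2
  have hJ : Iq I r ≤ maximalIdeal R := by
    rw [← Localization.AtPrime.map_eq_maximalIdeal]
    exact Ideal.map_mono hIr
  obtain ⟨hloc, hm⟩ := isLocalRing_cplJ (Iq I r) hJ
  have hcm : (maximalIdeal (Cq I r)).comap (algebraMap A (Cq I r)) = r.asIdeal := by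
    rw [IsScalarTower.algebraMap_eq A R (Cq I r), ← Ideal.comap_comap]
    have h1 : (maximalIdeal (Cq I r)).comap (algebraMap R (Cq I r)) = maximalIdeal R :=
      ((maximalIdeal.isMaximal R).eq_of_le (Ideal.comap_ne_top _ (maximalIdeal.isMaximal _).ne_top)
        (Ideal.map_le_iff_le_comap.1 hm.le)).symm
    rw [h1]
    exact IsLocalization.AtPrime.comap_maximalIdeal R r.asIdeal
  haveI := flat_Cq I r
  haveI : (maximalIdeal (Cq I r)).LiesOver r.asIdeal := ⟨hcm.symm⟩
  obtain ⟨P, -, hP, hPp⟩ := Ideal.exists_ideal_le_liesOver_of_le (p := p.asIdeal) (q := r.asIdeal)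
    (maximalIdeal (Cq I r)) hpr
  refine ⟨⟨P, hP⟩, hPp.over.symm, fun Q hQ hIQ => ?_⟩
  have h1 : p.asIdeal ⊔ I ≤ Q.asIdeal.comap (algebraMap A (Cq I r)) := by
    refine sup_le ?_ (Ideal.map_le_iff_le_comap.1 hIQ)
    rw [hPp.over]
    exact Ideal.comap_mono hQ
  have h2 : Q.asIdeal.comap (algebraMap A (Cq I r)) = r.asIdeal :=
    le_antisymm (comap_le_of_Cq I r Q) (hr.2 ⟨inferInstance, h1⟩ (comap_le_of_Cq I r Q))
  have h3 : maximalIdeal (Cq I r) ≤ Q.asIdeal := by
    rw [← hm, ← Localization.AtPrime.map_eq_maximalIdeal, Ideal.map_map, ← IsScalarTower.algebraMap_eq,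
      Ideal.map_le_iff_le_comap, h2]
  rw [← (maximalIdeal.isMaximal _).eq_of_le Q.isPrime.ne_top h3]
  exact maximalIdeal.isMaximal _

/-- The sixth condition. -/
abbrev CondSix (T : Set (PrimeSpectrum A)) (s : ℕ) : Prop :=
  ∀ q : PrimeSpectrum A, q ∈ T → ∀ p' : PrimeSpectrum (Cq I q), ¬ I.map (algebraMap A (Cq I q)) ≤ p'.asIdeal →
    (∀ q' : PrimeSpectrum (Cq I q), p' ≤ q' → I.map (algebraMap A (Cq I q)) ≤ q'.asIdeal → q'.asIdeal.IsMaximal) →
      (s : ℕ∞) < LocCoh.depth (Localization.AtPrime p'.asIdeal)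
        (LocalizedModule p'.asIdeal.primeCompl
          (AdicCompletion (Iq I q) (LocalizedModule q.asIdeal.primeCompl M)))

set_option synthInstance.maxHeartbeats 200000 in
set_option maxHeartbeats 800000 in
/-- Stacks-type lemma: no prime of `V(I) ∖ T` between forces large depth. -/
theorem depth_gt_of_no_between (T : Set (PrimeSpectrum A)) (hTI : T ⊆ PrimeSpectrum.zeroLocus (I : Set A)) (s : ℕ)
    (h6 : CondSix I M T s) (p q : PrimeSpectrum A) (hpq : p ≤ q) (hp : ¬ I ≤ p.asIdeal) (hq : q ∈ T)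
    (hr : ∀ r : PrimeSpectrum A, p ≤ r → r ≤ q → I ≤ r.asIdeal → r ∈ T) :
    (s : ℕ∞) < LocCoh.depth (Localization.AtPrime p.asIdeal) (LocalizedModule p.asIdeal.primeCompl M) := by
  obtain ⟨r₀, hr₀, hr₀q⟩ := Ideal.exists_minimalPrimes_le (I := p.asIdeal ⊔ I) (J := q.asIdeal)
    (sup_le hpq (hTI hq))
  let r : PrimeSpectrum A := ⟨r₀, hr₀.1.1⟩
  haveI : r₀.IsPrime := hr₀.1.1
  have hpr : p ≤ r := le_sup_left.trans hr₀.1.2
  have hrT : r ∈ T := hr r hpr hr₀q (le_sup_right.trans hr₀.1.2)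
  obtain ⟨P₀, hP₀, hP₀max⟩ := exists_prime_Cq I p r hpr hr₀
  haveI := isNoetherianRing_Cq I r
  haveI := flat_Cq I r
  obtain ⟨P₁, hP₁, hP₁P⟩ := Ideal.exists_minimalPrimes_le (I := p.asIdeal.map (algebraMap A (Cq I r)))
    (J := P₀.asIdeal) (Ideal.map_le_iff_le_comap.2 hP₀.ge)
  let P : PrimeSpectrum (Cq I r) := ⟨P₁, hP₁.1.1⟩
  haveI : P₁.IsPrime := hP₁.1.1
  have hPp : P.asIdeal.comap (algebraMap A (Cq I r)) = p.asIdeal :=
    le_antisymm ((Ideal.comap_mono hP₁P).trans hP₀.le) (Ideal.map_le_iff_le_comap.1 hP₁.1.2)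
  have hnot : ¬ I.map (algebraMap A (Cq I r)) ≤ P.asIdeal := fun h =>
    hp (hPp ▸ Ideal.map_le_iff_le_comap.1 h)
  have hmax : ∀ Q : PrimeSpectrum (Cq I r), P ≤ Q → I.map (algebraMap A (Cq I r)) ≤ Q.asIdeal →
      Q.asIdeal.IsMaximal := by
    intro Q hQ hIQ
    haveI := isLocalRing_cplJ (Iq I r) (by
      rw [← Localization.AtPrime.map_eq_maximalIdeal]
      exact Ideal.map_mono (le_sup_right.trans hr₀.1.2))
    obtain ⟨hloc, hm⟩ := this
    have h1 : p.asIdeal ⊔ I ≤ Q.asIdeal.comap (algebraMap A (Cq I r)) :=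
      sup_le (hPp.ge.trans (Ideal.comap_mono hQ)) (Ideal.map_le_iff_le_comap.1 hIQ)
    have h2 : Q.asIdeal.comap (algebraMap A (Cq I r)) = r.asIdeal :=
      le_antisymm (comap_le_of_Cq I r Q) (hr₀.2 ⟨inferInstance, h1⟩ (comap_le_of_Cq I r Q))
    have h3 : maximalIdeal (Cq I r) ≤ Q.asIdeal := by
      rw [← hm, ← Localization.AtPrime.map_eq_maximalIdeal, Ideal.map_map, ← IsScalarTower.algebraMap_eq,
        Ideal.map_le_iff_le_comap, h2]
    rw [← (maximalIdeal.isMaximal _).eq_of_le Q.isPrime.ne_top h3]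
    exact maximalIdeal.isMaximal _
  have h := h6 r hrT P hnot hmax
  rw [← depth_cplModule I M r P,
    (FlatDepth.atPrime_invariants (A := A) (B := Cq I r) (F := Cq I r) (E := M) (q := P.asIdeal)).1] at h
  have h0 : LocCoh.depth (EGA4.FibLocRing A (Cq I r) P.asIdeal) (EGA4.FibLocMod A (Cq I r) P.asIdeal (Cq I r)) = 0 := by
    haveI : Nontrivial (EGA4.FibLocMod A (Cq I r) P.asIdeal (Cq I r)) := by
      refine Submodule.Quotient.nontrivial_iff.2 (DepthLib.smul_top_ne_top ?_)
      exact ne_top_of_le_ne_top (maximalIdeal.isMaximal _).ne_top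
        (IsLocalRing.le_maximalIdeal (Ideal.Quotient.nontrivial_iff.1
          (FlatDepth.nontrivial_fibLocRing (A := A) (B := Cq I r) (q := P.asIdeal))))
    refine DepthLib.idealDepth_eq_zero_of_forall_not_isSMulRegular
      (DepthLib.smul_top_ne_top (maximalIdeal.isMaximal _).ne_top) fun x hx hreg => ?_
    obtain ⟨y, rfl⟩ := Ideal.Quotient.mk_surjective x
    have hy : y ∈ maximalIdeal (Localization.AtPrime P.asIdeal) := by
      rw [mem_maximalIdeal, mem_nonunits_iff] at hx ⊢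
      exact fun hu => hx (hu.map _)
    have hrad : maximalIdeal (Localization.AtPrime P.asIdeal) ≤
        ((P.asIdeal.comap (algebraMap A (Cq I r))).map
          (algebraMap A (Localization.AtPrime P.asIdeal))).radical := by
      rw [Ideal.radical_eq_sInf]
      refine le_sInf fun W ⟨hW, hWp⟩ => ?_
      let W' := W.comap (algebraMap (Cq I r) (Localization.AtPrime P.asIdeal))
      have h4 : p.asIdeal.map (algebraMap A (Cq I r)) ≤ W' := by
        rw [Ideal.map_le_iff_le_comap, Ideal.comap_comap, ← IsScalarTower.algebraMap_eq,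
          ← Ideal.map_le_iff_le_comap]
        exact hPp ▸ hW
      haveI : W.IsPrime := hWp
      have h5 : W' ≤ P.asIdeal := fun a ha => by
        by_contra haP
        exact hWp.ne_top (Ideal.eq_top_of_isUnit_mem _ ha
          (IsLocalization.map_units (Localization.AtPrime P.asIdeal) (⟨a, haP⟩ : P.asIdeal.primeCompl)))
      have h6' : P.asIdeal ≤ W' := hP₁.2 ⟨inferInstance, h4⟩ h5
      rw [← Localization.AtPrime.map_eq_maximalIdeal, Ideal.map_le_iff_le_comap]
      exact h6'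
    obtain ⟨n, hn⟩ := hrad hy
    refine not_subsingleton (EGA4.FibLocMod A (Cq I r) P.asIdeal (Cq I r)) (subsingleton_of_forall_eq 0 fun z => ?_)
    refine hreg.pow n ?_
    simp only [smul_zero]
    rw [← map_pow, Ideal.Quotient.eq_zero_iff_mem.2 hn]
    exact zero_smul (EGA4.FibLocRing A (Cq I r) P.asIdeal) z
  rw [h0, add_zero] at h
  have key : ∀ (p₁ : Ideal A) [p₁.IsPrime], p₁ = p.asIdeal →
      (s : ℕ∞) < LocCoh.depth (Localization.AtPrime p₁) (LocalizedModule p₁.primeCompl M) →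
      (s : ℕ∞) < LocCoh.depth (Localization.AtPrime p.asIdeal) (LocalizedModule p.asIdeal.primeCompl M) := by
    intro p₁ hp₁ he h'
    subst he
    exact h'
  exact key _ hPp h

omit [IsNoetherianRing A] in
/-- Depth at a smaller prime, computed in a localization. -/
theorem depth_localized_eq (p q : PrimeSpectrum A) (pR : Ideal (Localization.AtPrime q.asIdeal)) [pR.IsPrime]
    (hpR : pR.comap (algebraMap A (Localization.AtPrime q.asIdeal)) = p.asIdeal) :
    LocCoh.depth (Localization.AtPrime p.asIdeal) (LocalizedModule p.asIdeal.primeCompl M) =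
      LocCoh.depth (Localization.AtPrime pR)
        (LocalizedModule pR.primeCompl (LocalizedModule q.asIdeal.primeCompl M)) := by
  have hle : p.asIdeal ≤ q.asIdeal := by
    rw [← hpR]
    exact (Ideal.comap_mono (IsLocalRing.le_maximalIdeal Ideal.IsPrime.ne_top')).trans
      (IsLocalization.AtPrime.comap_maximalIdeal (Localization.AtPrime q.asIdeal) q.asIdeal).le
  refine depth_eq_of_change pR p.asIdeal hpR.symm (fun x => ?_)
    (LocalizedModule.mkLinearMap q.asIdeal.primeCompl M) (fun n => ?_) fun m hm => ?_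
  · obtain ⟨⟨a, s⟩, h⟩ := IsLocalization.surj q.asIdeal.primeCompl x
    exact ⟨s.1, fun hs => s.2 (hle hs), a, by rw [mul_comm]; exact h⟩
  · obtain ⟨⟨m, s⟩, h⟩ := IsLocalizedModule.surj q.asIdeal.primeCompl (LocalizedModule.mkLinearMap q.asIdeal.primeCompl M) n
    exact ⟨s.1, fun hs => s.2 (hle hs), m, h⟩
  · obtain ⟨s, hs⟩ := (IsLocalizedModule.eq_zero_iff q.asIdeal.primeCompl _).1 hm
    exact ⟨s.1, fun h => s.2 (hle h), hs⟩

/-- The dimension of the completion along a prime with closed-point trace is at most the cohomological dimension. -/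
theorem dim_le_of_cdLE {B : Type u} [CommRing B] [IsNoetherianRing B] [IsLocalRing B] (J : Ideal B) (d : ℕ)
    (hcd : LocCoh.CdLE B J d) (P : PrimeSpectrum B) (hJ : J ≤ maximalIdeal B)
    (hP : ∀ Q : PrimeSpectrum B, P ≤ Q → J ≤ Q.asIdeal → Q.asIdeal.IsMaximal) :
    ringKrullDim (B ⧸ P.asIdeal) ≤ ((d : ℕ∞) : WithBot ℕ∞) := by
  haveI : Nontrivial (B ⧸ P.asIdeal) := inferInstance
  obtain ⟨n, hn⟩ := DepthLib.exists_supportDim_eq_natCast (R := B) (M := B ⧸ P.asIdeal)
  rw [← Module.supportDim_quotient_eq_ringKrullDim, hn]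
  by_contra hlt
  have hdn : d < n := by
    rw [not_le] at hlt
    exact_mod_cast hlt
  have hrad1 : maximalIdeal B ≤ (J ⊔ P.asIdeal).radical := by
    rw [Ideal.radical_eq_sInf]
    refine le_sInf fun Q ⟨hQ, hQp⟩ => ?_
    exact (IsLocalRing.eq_maximalIdeal (hP ⟨Q, hQp⟩ (le_sup_right.trans hQ) (le_sup_left.trans hQ))).ge
  have hrad2 : J ⊔ P.asIdeal ≤ (maximalIdeal B).radical :=
    (sup_le hJ (IsLocalRing.le_maximalIdeal P.isPrime.ne_top)).trans Ideal.le_radical
  obtain ⟨e₁⟩ := nonempty_congr_radical hrad1 hrad2 n (B ⧸ P.asIdeal)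
  obtain ⟨e₂⟩ := nonempty_congr_sup J P.asIdeal n (B ⧸ P.asIdeal) fun x => ⟨1, fun a ha => by
    rw [pow_one] at ha
    obtain ⟨y, rfl⟩ := Ideal.Quotient.mk_surjective x
    exact (Submodule.Quotient.mk_eq_zero _).2 (Ideal.mul_mem_right y _ ha)⟩
  haveI := hcd (B ⧸ P.asIdeal) n hdn
  have hsub := (e₁.trans e₂).toEquiv.subsingleton
  haveI := (nontrivial_and_not_finite n (B ⧸ P.asIdeal) hn).1
  exact not_subsingleton (LocCoh.H (maximalIdeal B) n (B ⧸ P.asIdeal)) hsub

/-- Condition (c) implies the sixth condition. -/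
theorem condSix_of_depth {ω : Dual.D A} (hω : Dual.IsDualizing A ω) (d : ℕ) (hcd : LocCoh.CdLE A I d)
    (𝔞 : Ideal A) (hI𝔞 : I ≤ 𝔞) (s : ℕ)
    (hc : ∀ p q : PrimeSpectrum A, p ≤ q → ¬ I ≤ p.asIdeal → 𝔞 ≤ q.asIdeal →
      (s : ℕ∞) < LocCoh.depth (Localization.AtPrime p.asIdeal) (LocalizedModule p.asIdeal.primeCompl M) ∨
        (((d + s : ℕ) : ℕ∞) : WithBot ℕ∞) <
          ((LocCoh.depth (Localization.AtPrime p.asIdeal) (LocalizedModule p.asIdeal.primeCompl M) : ℕ∞) : WithBot ℕ∞) +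
            Formal2.dimBetween A p.asIdeal q.asIdeal) :
    CondSix I M (PrimeSpectrum.zeroLocus (𝔞 : Set A)) s := by
  intro q hq P hP hmax
  have hIq : I ≤ q.asIdeal := hI𝔞.trans hq
  let R := Localization.AtPrime q.asIdeal
  obtain ⟨hloc, hm⟩ := isLocalRing_cplJ (Iq I q) (by
    rw [← Localization.AtPrime.map_eq_maximalIdeal]; exact Ideal.map_mono hIq)
  haveI := isNoetherianRing_Cq I q
  haveI := flat_Cq I q
  let p : PrimeSpectrum A := ⟨P.asIdeal.comap (algebraMap A (Cq I q)), inferInstance⟩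
  have hpq : p ≤ q := comap_le_of_Cq I q P
  have hpI : ¬ I ≤ p.asIdeal := fun h => hP (Ideal.map_le_iff_le_comap.2 h)
  rw [← depth_cplModule I M q P]
  rcases hc p q hpq hpI hq with h | h
  · exact h.trans_le (depth_le_baseChange M P)
  obtain ⟨hω', hn'⟩ : Dual.IsDualizing R ((Dlz27.omegaAt (Dlz27.model hω) q)⟦Dlz27.deg hω (Dlz27.model hω) q⟧) ∧
      Dual.IsNormalized R ((Dlz27.omegaAt (Dlz27.model hω) q)⟦Dlz27.deg hω (Dlz27.model hω) q⟧) :=
    ⟨Dlz27.isDualizing_shift (Dlz27.isDualizing_omegaAt hω (Dlz27.model hω) q) _,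
      Dlz27.isNormalized_omegaAt hω (Dlz27.model hω) q⟩
  let MR := LocalizedModule q.asIdeal.primeCompl M
  haveI : Module.Finite R MR :=
    Module.Finite.of_isLocalizedModule q.asIdeal.primeCompl (LocalizedModule.mkLinearMap q.asIdeal.primeCompl M)
  let pR : PrimeSpectrum R := ⟨P.asIdeal.comap (algebraMap R (Cq I q)), inferInstance⟩
  have hpR : pR.asIdeal.comap (algebraMap A R) = p.asIdeal := by
    show Ideal.comap (algebraMap A R) (Ideal.comap (algebraMap R (Cq I q)) P.asIdeal) = _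
    rw [Ideal.comap_comap, ← IsScalarTower.algebraMap_eq]
  have hmap : p.asIdeal.map (algebraMap A R) = pR.asIdeal := by
    rw [← hpR]
    exact IsLocalization.map_comap q.asIdeal.primeCompl R pR.asIdeal
  have h1 := depth_add_dim_le hω' hn' hm MR P pR rfl
  rw [Formal2.dimBetween, hmap, depth_localized_eq M p q pR.asIdeal hpR] at h
  have h2 := h.trans_le h1
  let e : Cq I q ⊗[R] MR ≃ₗ[Cq I q] Cq I q ⊗[A] M :=
    (AlgebraTensorModule.congr (LinearEquiv.refl _ _)
      (IsLocalizedModule.isBaseChange q.asIdeal.primeCompl R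
        (LocalizedModule.mkLinearMap q.asIdeal.primeCompl M)).equiv.symm).trans
      (AlgebraTensorModule.cancelBaseChange A R (Cq I q) (Cq I q) M)
  rw [LocCoh.depth, DepthLib.idealDepth_congr (IsLocalizedModule.mapEquiv P.asIdeal.primeCompl
    (LocalizedModule.mkLinearMap P.asIdeal.primeCompl _) (LocalizedModule.mkLinearMap P.asIdeal.primeCompl _)
    (Localization.AtPrime P.asIdeal) e), ← LocCoh.depth] at h2
  have hcd' : LocCoh.CdLE (Cq I q) (I.map (algebraMap A (Cq I q))) d := fun N _ _ i hi => by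
    letI : Module A N := Module.compHom N (algebraMap A (Cq I q))
    haveI : IsScalarTower A (Cq I q) N := IsScalarTower.of_algebraMap_smul fun _ _ => rfl
    exact (subsingleton_restrictScalars_iff (Cq I q) I N i).2 (hcd N i hi)
  have h3 := h2.trans_le (add_le_add le_rfl (dim_le_of_cdLE (I.map (algebraMap A (Cq I q))) d hcd' P (by
    rw [← hm, IsScalarTower.algebraMap_eq A R (Cq I q), ← Ideal.map_map]
    refine Ideal.map_mono ?_
    rw [← Localization.AtPrime.map_eq_maximalIdeal]; exact Ideal.map_mono hIq) hmax))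
  norm_cast at h3
  rw [Nat.cast_add, add_comm (d : ℕ∞)] at h3
  exact (ENat.add_lt_add_iff_right (ENat.natCast_ne_top d)).1 h3

end Groth.Agent.Bootstrap27
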