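import Groth.Agent.Lib.Bootstrap27.CplBase

/-!
# Conditions (4) and (6) for the completion
-/

set_option autoImplicit false
universe u

open IsLocalRing TensorProduct Groth.Agent.LocCohLib

attribute [local instance] HasDerivedCategory.standard

noncomputable section

namespace Groth.Agent.Bootstrap27

variable {A : Type u} [CommRing A] [IsNoetherianRing A] (I : Ideal A) (M : Type u) [AddCommGroup M] [Module A M]
  [Module.Finite A M]

theorem finite_hatModule : Module.Finite (AdicCompletion I A) (AdicCompletion I M) :=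
  Module.Finite.equiv (AdicCompletion.ofTensorProductEquivOfFiniteNoetherian I M)

theorem dimBetween_eq (p q : PrimeSpectrum A) (pR : Ideal (Localization.AtPrime q.asIdeal))
    (hp : p.asIdeal.map (algebraMap A (Localization.AtPrime q.asIdeal)) = pR) :
    Formal2.dimBetween A p.asIdeal q.asIdeal = ringKrullDim (Localization.AtPrime q.asIdeal ⧸ pR) := by
  subst hp; rfl

theorem depth_mono_hat (p : PrimeSpectrum (AdicCompletion I A)) :
    LocCoh.depth (Localization.AtPrime (q₀ I p).asIdeal) (LocalizedModule (q₀ I p).asIdeal.primeCompl M) ≤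
      LocCoh.depth (Localization.AtPrime p.asIdeal) (LocalizedModule p.asIdeal.primeCompl (AdicCompletion I M)) := by
  haveI := isNoetherianRing_hat I
  refine (depth_le_baseChange M p).trans (le_of_eq ?_)
  exact DepthLib.idealDepth_congr (IsLocalizedModule.mapEquiv p.asIdeal.primeCompl
    (LocalizedModule.mkLinearMap p.asIdeal.primeCompl _) (LocalizedModule.mkLinearMap p.asIdeal.primeCompl _)
    (Localization.AtPrime p.asIdeal) (AdicCompletion.ofTensorProductEquivOfFiniteNoetherian I M))

set_option maxHeartbeats 800000 in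
/-- Depth plus dimension does not drop in the completion. -/
theorem depth_add_dimBetween_hat {ω : Dual.D A} (hω : Dual.IsDualizing A ω) (p q : PrimeSpectrum (AdicCompletion I A))
    (hpq : p ≤ q) (hq : I.map (algebraMap A (AdicCompletion I A)) ≤ q.asIdeal) :
    ((LocCoh.depth (Localization.AtPrime (q₀ I p).asIdeal) (LocalizedModule (q₀ I p).asIdeal.primeCompl M) : ℕ∞) : WithBot ℕ∞) +
        Formal2.dimBetween A (q₀ I p).asIdeal (q₀ I q).asIdeal ≤
      ((LocCoh.depth (Localization.AtPrime p.asIdeal) (LocalizedModule p.asIdeal.primeCompl (AdicCompletion I M)) : ℕ∞) : WithBot ℕ∞) +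
        Formal2.dimBetween (AdicCompletion I A) p.asIdeal q.asIdeal := by
  haveI := isNoetherianRing_hat I
  haveI := finite_hatModule I M
  let Ah := AdicCompletion I A
  let qa := q₀ I q
  let R := Localization.AtPrime qa.asIdeal
  let T := Localization.AtPrime q.asIdeal
  letI : Algebra R T := (locHat I q).toRingHom.toAlgebra
  haveI : IsScalarTower A R T := .of_algebraMap_eq fun a => ((locHat I q).commutes a).symm
  haveI : Module.Flat R T := locHat_flat I q
  have hm : (maximalIdeal R).map (algebraMap R T) = maximalIdeal T := map_maximalIdeal_locHat I q hq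
  have hdisj : Disjoint (q.asIdeal.primeCompl : Set Ah) (p.asIdeal : Set Ah) :=
    Set.disjoint_left.2 fun x hx hxp => hx (hpq hxp)
  obtain ⟨P, hPd⟩ : ∃ P : PrimeSpectrum T, P.asIdeal = p.asIdeal.map (algebraMap Ah T) := ⟨⟨_,
    IsLocalization.isPrime_of_isPrime_disjoint q.asIdeal.primeCompl T _ p.isPrime hdisj⟩, rfl⟩
  have hP : P.asIdeal.comap (algebraMap Ah T) = p.asIdeal := by
    rw [hPd]; exact IsLocalization.comap_map_of_isPrime_disjoint q.asIdeal.primeCompl T p.isPrime hdisj
  let pR : PrimeSpectrum R := ⟨P.asIdeal.comap (algebraMap R T), inferInstance⟩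
  have hpR : pR.asIdeal.comap (algebraMap A R) = (q₀ I p).asIdeal := by
    show Ideal.comap (algebraMap A R) (Ideal.comap (algebraMap R T) P.asIdeal) = _
    rw [Ideal.comap_comap, ← IsScalarTower.algebraMap_eq, IsScalarTower.algebraMap_eq A Ah T, ← Ideal.comap_comap, hP]
    rfl
  obtain ⟨hω', hn'⟩ : Dual.IsDualizing R ((Dlz27.omegaAt (Dlz27.model hω) qa)⟦Dlz27.deg hω (Dlz27.model hω) qa⟧) ∧
      Dual.IsNormalized R ((Dlz27.omegaAt (Dlz27.model hω) qa)⟦Dlz27.deg hω (Dlz27.model hω) qa⟧) :=
    ⟨Dlz27.isDualizing_shift (Dlz27.isDualizing_omegaAt hω (Dlz27.model hω) qa) _,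
      Dlz27.isNormalized_omegaAt hω (Dlz27.model hω) qa⟩
  let MR := LocalizedModule qa.asIdeal.primeCompl M
  haveI : Module.Finite R MR :=
    Module.Finite.of_isLocalizedModule qa.asIdeal.primeCompl (LocalizedModule.mkLinearMap qa.asIdeal.primeCompl M)
  have h1 := depth_add_dim_le hω' hn' hm MR P pR rfl
  let e₁ : T ⊗[R] MR ≃ₗ[T] T ⊗[A] M :=
    (AlgebraTensorModule.congr (LinearEquiv.refl _ _)
      (IsLocalizedModule.isBaseChange qa.asIdeal.primeCompl R
        (LocalizedModule.mkLinearMap qa.asIdeal.primeCompl M)).equiv.symm).trans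
      (AlgebraTensorModule.cancelBaseChange A R T T M)
  let e₂ : T ⊗[A] M ≃ₗ[T] T ⊗[Ah] AdicCompletion I M :=
    (AlgebraTensorModule.cancelBaseChange A Ah T T M).symm.trans
      (AlgebraTensorModule.congr (LinearEquiv.refl _ _) (AdicCompletion.ofTensorProductEquivOfFiniteNoetherian I M))
  let e₃ : T ⊗[Ah] AdicCompletion I M ≃ₗ[T] LocalizedModule q.asIdeal.primeCompl (AdicCompletion I M) :=
    (IsLocalizedModule.isBaseChange q.asIdeal.primeCompl T
      (LocalizedModule.mkLinearMap q.asIdeal.primeCompl (AdicCompletion I M))).equiv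
  have heq : LocCoh.depth (Localization.AtPrime P.asIdeal) (LocalizedModule P.asIdeal.primeCompl (T ⊗[R] MR)) =
      LocCoh.depth (Localization.AtPrime P.asIdeal)
        (LocalizedModule P.asIdeal.primeCompl (LocalizedModule q.asIdeal.primeCompl (AdicCompletion I M))) :=
    DepthLib.idealDepth_congr (IsLocalizedModule.mapEquiv P.asIdeal.primeCompl
      (LocalizedModule.mkLinearMap P.asIdeal.primeCompl _) (LocalizedModule.mkLinearMap P.asIdeal.primeCompl _)
      (Localization.AtPrime P.asIdeal) ((e₁.trans e₂).trans e₃))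
  rw [heq, ← depth_localized_eq (A := Ah) (AdicCompletion I M) p q P.asIdeal hP,
    ← depth_localized_eq M (q₀ I p) qa pR.asIdeal hpR] at h1
  rwa [dimBetween_eq (q₀ I p) qa pR.asIdeal (hpR ▸ IsLocalization.map_comap qa.asIdeal.primeCompl R pR.asIdeal),
    dimBetween_eq p q P.asIdeal hPd.symm]

omit M in
/-- The completion of `Â_q` along `I` is the completion of `A_{q₀}`. -/
theorem exists_cplEquiv_hat (q : PrimeSpectrum (AdicCompletion I A))
    (hq : I.map (algebraMap A (AdicCompletion I A)) ≤ q.asIdeal) :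
    ∀ J : Ideal (Localization.AtPrime q.asIdeal), J = I.map (algebraMap A (Localization.AtPrime q.asIdeal)) →
      Nonempty (Cq I (q₀ I q) ≃ₐ[A] AdicCompletion J (Localization.AtPrime q.asIdeal)) := by
  rintro J rfl
  exact CplLevelH7.exists_cplEquiv I (locHat I q) (lev_locHat_bijective I q hq)

set_option synthInstance.maxHeartbeats 200000 in
set_option maxHeartbeats 800000 in
/-- Condition (6) passes to the completion. -/
theorem condSix_hat (T : Set (PrimeSpectrum A)) (hTI : T ⊆ PrimeSpectrum.zeroLocus (I : Set A)) (s : ℕ)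
    (h6 : CondSix I M T s) :
    CondSix (I.map (algebraMap A (AdicCompletion I A))) (AdicCompletion I M)
      ((PrimeSpectrum.comap (algebraMap A (AdicCompletion I A))) ⁻¹' T) s := by
  intro q hqT P hP hmax
  haveI := isNoetherianRing_hat I
  haveI := finite_hatModule I M
  let Ah := AdicCompletion I A
  let Ih := I.map (algebraMap A Ah)
  have hq : Ih ≤ q.asIdeal := Ideal.map_le_iff_le_comap.2 (hTI hqT)
  let A' := Cq I (q₀ I q)
  let A'' := Cq Ih q
  haveI := isNoetherianRing_Cq I (q₀ I q)
  haveI := isNoetherianRing_Cq Ih q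
  obtain ⟨e⟩ := exists_cplEquiv_hat I q hq (Iq Ih q) (by
    show Ideal.map _ (Ideal.map _ _) = _
    rw [Ideal.map_map, ← IsScalarTower.algebraMap_eq])
  letI : Algebra A' A'' := e.toAlgHom.toRingHom.toAlgebra
  haveI : IsScalarTower A A' A'' := .of_algebraMap_eq fun a => (e.commutes a).symm
  haveI : Module.Flat A' A'' := Module.Flat.of_linearEquiv
    (LinearEquiv.ofBijective (Algebra.linearMap A' A'') e.bijective).symm
  let P' : PrimeSpectrum A' := ⟨P.asIdeal.comap (algebraMap A' A''), inferInstance⟩
  have halg : algebraMap A A'' = (algebraMap A' A'').comp (algebraMap A A') := IsScalarTower.algebraMap_eq A A' A''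
  have hI'' : Ih.map (algebraMap Ah A'') = (I.map (algebraMap A A')).map (algebraMap A' A'') := by
    rw [Ideal.map_map, Ideal.map_map, ← IsScalarTower.algebraMap_eq, halg]
  have hsurj : Function.Surjective (algebraMap A' A'') := e.surjective
  have h := h6 (q₀ I q) hqT P' (fun hle => hP ?_) (fun Q hPQ hIQ => ?_)
  · rw [← depth_cplModule I M (q₀ I q) P'] at h
    rw [← depth_cplModule Ih (AdicCompletion I M) q P]
    refine h.trans_le ((depth_le_baseChange (A' ⊗[A] M) P).trans (le_of_eq ?_))
    refine DepthLib.idealDepth_congr (IsLocalizedModule.mapEquiv P.asIdeal.primeCompl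
      (LocalizedModule.mkLinearMap P.asIdeal.primeCompl _) (LocalizedModule.mkLinearMap P.asIdeal.primeCompl _)
      (Localization.AtPrime P.asIdeal) ?_)
    exact (AlgebraTensorModule.cancelBaseChange A A' A'' A'' M).trans
      ((AlgebraTensorModule.cancelBaseChange A Ah A'' A'' M).symm.trans
        (AlgebraTensorModule.congr (LinearEquiv.refl _ _) (AdicCompletion.ofTensorProductEquivOfFiniteNoetherian I M)))
  · show Ih.map (algebraMap Ah A'') ≤ P.asIdeal
    rw [hI'']
    exact Ideal.map_le_iff_le_comap.2 hle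
  · haveI : (Q.asIdeal.map (algebraMap A' A'')).IsPrime := Ideal.map_isPrime_of_equiv e.toRingEquiv
    have hQ : (Q.asIdeal.map (algebraMap A' A'')).comap (algebraMap A' A'') = Q.asIdeal :=
      Ideal.comap_map_of_bijective (algebraMap A' A'') e.bijective
    have hmaxQ := hmax ⟨Q.asIdeal.map (algebraMap A' A''), inferInstance⟩ (by
      show P.asIdeal ≤ Q.asIdeal.map (algebraMap A' A'')
      rw [← Ideal.map_comap_of_surjective _ hsurj P.asIdeal]
      exact Ideal.map_mono hPQ) (by
      show Ih.map (algebraMap Ah A'') ≤ _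
      rw [hI'']
      exact Ideal.map_mono hIQ)
    rw [← hQ]
    exact Ideal.comap_isMaximal_of_surjective _ hsurj (K := Q.asIdeal.map (algebraMap A' A'')) (H := hmaxQ)

end Groth.Agent.Bootstrap27
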