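import Groth.Agent.Lib.Bootstrap27.Basic
import Groth.Agent.Lib.DCpl.CechRHom
import Groth.Agent.Lib.DualDCpl27.RHom
import Groth.Agent.Lib.RGamma27.CechLC
import Groth.Agent.Lib.RGamma27.CechExt
import Groth.Agent.Lib.ExtCech.Compare

/-!
# Annihilation of the cohomology of the derived completion of local cohomology
-/

set_option autoImplicit false
universe u

open CategoryTheory CategoryTheory.Limits CochainComplex CochainComplex.HomComplex

attribute [local instance] HasDerivedCategory.standard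

noncomputable section

namespace Groth.Agent.Bootstrap27

variable {A : Type u} [CommRing A]

/-- A cocycle out of a bounded above complex of projectives into a bounded below complex with killed
cohomology in the relevant degrees becomes a coboundary after multiplication. -/
theorem exists_pow_smul_coboundary (P T : DRing.Cx A) (hP : ∀ p, Module.Projective A (P.X p))
    (d : ℤ) [P.IsStrictlyLE d] [T.IsStrictlyGE 0] (i : ℤ) (f : A)
    (hT : ∀ j : ℤ, j ≤ d + i → ∀ x : T.X j, T.d j (j + 1) x = 0 → ∃ y : T.X (j - 1), T.d (j - 1) j y = f • x) :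
    ∀ z : Cochain P T i, δ i (i + 1) z = 0 →
      ∃ h : Cochain P T (i - 1), δ (i - 1) i h = f ^ (d + i + 1).toNat • z := by
  have key : ∀ (n : ℕ) (m : ℤ), m ≤ d → (m + i + 1).toNat = n → ∀ z : Cochain P T i, δ i (i + 1) z = 0 →
      (∀ (p q : ℤ) (hpq : p + i = q), m < p → z.v p q hpq = 0) →
      ∃ h : Cochain P T (i - 1), δ (i - 1) i h = f ^ n • z := by
    intro n
    induction n with
    | zero =>
      intro m _ hm z _ hzero
      refine ⟨0, ?_⟩
      rw [δ_zero, pow_zero, one_smul]
      refine (Cochain.ext _ _ fun p q hpq => ?_).symm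
      by_cases hp : m < p
      · simpa using hzero p q hpq hp
      · exact (T.isZero_of_isStrictlyGE 0 q (by omega)).eq_of_tgt _ _
    | succ n ih =>
      intro m hmd hm z hz hzero
      let q := m + i
      have hd : z.v m q rfl ≫ T.d q (q + 1) = 0 := by
        have h1 := congrArg (fun c => Cochain.v c m (q + 1) (by omega)) hz
        simp only [Cochain.zero_v] at h1
        rw [δ_v i (i + 1) rfl z m (q + 1) _ q (m + 1) (by omega) rfl, hzero (m + 1) (q + 1) (by omega) (by omega)] at h1
        simpa using h1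
      let φ : P.X m →ₗ[A] T.X q := f • (z.v m q rfl).hom
      have hrange : ∀ x, φ x ∈ LinearMap.range (T.d (q - 1) q).hom := fun x => by
        obtain ⟨y, hy⟩ := hT q (by omega) ((z.v m q rfl).hom x)
          (LinearMap.congr_fun (congrArg ModuleCat.Hom.hom hd) x)
        exact ⟨y, hy⟩
      haveI := hP m
      obtain ⟨g, hg⟩ := Module.projective_lifting_property (T.d (q - 1) q).hom.rangeRestrict
        (φ.codRestrict _ hrange) (T.d (q - 1) q).hom.surjective_rangeRestrict
      let hm' : P.X m ⟶ T.X (q - 1) := ModuleCat.ofHom g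
      let h₁ : Cochain P T (i - 1) := Cochain.single hm' (i - 1)
      have hh₁ : hm' ≫ T.d (q - 1) q = f • z.v m q rfl :=
        ModuleCat.hom_ext (LinearMap.ext fun x => congrArg Subtype.val (LinearMap.congr_fun hg x))
      let z' := f • z - δ (i - 1) i h₁
      have hz' : δ i (i + 1) z' = 0 := by simp [z', hz, δ_δ]
      obtain ⟨h, hh⟩ := ih (m - 1) (by omega) (by omega) z' hz' fun p r hpr hp => by
        simp only [z', Cochain.sub_v, Cochain.smul_v]
        rw [δ_v (i - 1) i (by omega) h₁ p r hpr (r - 1) (p + 1) rfl rfl,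
          Cochain.single_v_eq_zero hm' (i - 1) (p + 1) r (by omega) (by omega)]
        by_cases hpm : p = m
        · subst hpm
          obtain rfl : r = q := by omega
          rw [Cochain.single_v hm' (i - 1) (by omega), hh₁]
          simp
        · rw [Cochain.single_v_eq_zero hm' (i - 1) p (r - 1) (by omega) hpm, hzero p r hpr (by omega)]
          simp
      refine ⟨h + f ^ n • h₁, ?_⟩
      rw [δ_add, δ_smul, hh, pow_succ, mul_smul, ← smul_add, sub_add_cancel]
  intro z hz
  exact key _ d le_rfl rfl z hz fun p q hpq hp => (P.isZero_of_isStrictlyLE d p hp).eq_of_src _ _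

/-- The cohomology of `Hom•(P, T)` in degree `i` is killed by a power of `f`. -/
theorem smul_homology_homCx (P T : DRing.Cx A) (hP : ∀ p, Module.Projective A (P.X p))
    (d : ℤ) [P.IsStrictlyLE d] [T.IsStrictlyGE 0] (i : ℤ) (f : A)
    (hT : ∀ j : ℤ, j ≤ d + i → ∀ x : T.X j, T.d j (j + 1) x = 0 → ∃ y : T.X (j - 1), T.d (j - 1) j y = f • x)
    (x : (DRing.homCx P T).homology i) : f ^ (d + i + 1).toNat • x = 0 := by
  obtain ⟨z, rfl⟩ := DMod.homologyπ_surjective (DRing.homCx P T) i x
  have hcyc : (DRing.homCx P T).d i (i + 1) ((DRing.homCx P T).iCycles i z) = 0 :=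
    congrArg (fun t : (DRing.homCx P T).cycles i ⟶ (DRing.homCx P T).X (i + 1) => t z)
      ((DRing.homCx P T).iCycles_d i (i + 1))
  obtain ⟨h, hh⟩ := exists_pow_smul_coboundary P T hP d i f hT ((DRing.homCx P T).iCycles i z) hcyc
  rw [← map_smul]
  refine (DMod.homologyπ_eq_zero_iff (K := DRing.homCx P T) (j := i) (i := i - 1) (by simp) _).2 ⟨h, ?_⟩
  rw [map_smul]
  exact hh

variable [IsNoetherianRing A]

/-- The derived completion of `RΓ_J M` in degree `i` only sees `H^j_J(M)` for `j ≤ d + i`, `d ≥ cd I`. -/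
theorem smul_HD_derivedCompletion (I J : Ideal A) [DRing.HasRgammaI J] [DRing.HasDerivedCompletion I] (d : ℕ)
    (hcd : LocCoh.CdLE A I d) (M : Type u) [AddCommGroup M] [Module A M] (s : ℕ) (f : A)
    (hf : ∀ j : ℕ, j ≤ d + s → ∀ x : LocCoh.H J j M, f • x = 0) (i : ℤ) (hi : i ≤ s)
    (x : Dual.HD A ((DRing.derivedCompletion I).obj ((DRing.RgammaI J).obj (Dual.inD A M))).obj i) :
    f ^ (d + s + 1) • x = 0 := by
  classical
  haveI : DTen.HasLTen A := KFlat.DT.hasLTen
  haveI : DTen.HasRHom A := KFlat.HomD.hasRHom A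
  obtain ⟨sI, hsI⟩ : I.FG := IsNoetherian.noetherian I
  obtain ⟨sJ, hsJ⟩ : J.FG := IsNoetherian.noetherian J
  have hI : Ideal.span {y : A | y ∈ sI.toList} = I := by rw [← hsI]; congr 1; ext; simp
  have hJ : Ideal.span {y : A | y ∈ sJ.toList} = J := by rw [← hsJ]; congr 1; ext; simp
  let T := DerCA.extCech (ModuleCat.of A M) sJ.toList
  let C := DerCA.extCech (ModuleCat.of A A) sI.toList
  haveI hTGE : T.IsStrictlyGE 0 := (CochainComplex.isStrictlyGE_iff _ _).2 fun q hq => by
    refine @ModuleCat.isZero_of_subsingleton _ _ _ ⟨fun a b => ?_⟩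
    rw [ExtCechLib.X_range _ _ q (Or.inl hq) a, ExtCechLib.X_range _ _ q (Or.inl hq) b]
  obtain ⟨eT⟩ := RGamma27.cech_iso (I := J) (ModuleCat.of A M) sJ.toList
    (fun g hg => hJ ▸ Ideal.subset_span hg) (hJ.ge.trans Ideal.le_radical)
  -- the completion as `Hom•` out of a projective model of `C`
  haveI : (DerivedCategory.Q.obj C).IsLE (d : ℤ) := (DerivedCategory.isLE_iff _ _).2 fun j hj => by
    refine @ModuleCat.isZero_of_subsingleton _ _ _ ?_
    obtain ⟨k, rfl⟩ : ∃ k : ℕ, j = k := ⟨j.toNat, by omega⟩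
    obtain ⟨e⟩ := ExtCechLib.nonempty_extCechH_equiv sI.toList k A
    rw [hI] at e
    haveI := hcd A k (by omega)
    obtain ⟨l⟩ := RGamma27.HD_iso (K := C) (k : ℤ)
    exact (l.trans e).toEquiv.subsingleton
  obtain ⟨P, hPLE, hPfree, ⟨eP⟩⟩ := DMod.exists_free_resolution (DerivedCategory.Q.obj C) (d : ℤ)
  haveI := hPLE
  haveI : ∀ p, Projective (P.X p) := fun p => by
    haveI := hPfree p
    exact (IsProjective.iff_projective (R := A) (P.X p)).1 inferInstance
  haveI : P.IsKProjective := CochainComplex.isKProjective_of_projective P (d : ℤ)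
  obtain ⟨g⟩ := DualDCpl27.nonempty_gd_iso P eP
  obtain ⟨K', η, hη, ⟨eK⟩⟩ := DCpl.nonempty_cpl_iso_rhom sI.toList ((DRing.RgammaI J).obj (Dual.inD A M))
  obtain ⟨ec, -⟩ := DCpl.nonempty_iso_of_isCpl I {g | g ∈ sI.toList} hI hη
  let e : ((DRing.derivedCompletion I).obj ((DRing.RgammaI J).obj (Dual.inD A M))).obj ≅
      DerivedCategory.Q.obj (DRing.homCx P T) :=
    ec ≪≫ eK ≪≫ (g.app _).symm ≪≫ (KFlat.HomD.Gd P).mapIso eT.symm ≪≫ ((KFlat.HomD.gdIso P).app T).symm
  obtain ⟨l⟩ := RGamma27.HD_iso (K := DRing.homCx P T) i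
  let l' := ((DerivedCategory.homologyFunctor (ModuleCat.{u} A) i).mapIso e).toLinearEquiv ≪≫ₗ l
  have hT : ∀ j : ℤ, j ≤ (d : ℤ) + i → ∀ x : T.X j, T.d j (j + 1) x = 0 →
      ∃ y : T.X (j - 1), T.d (j - 1) j y = f • x := by
    intro j hj x hx
    rcases lt_or_ge j 0 with hj0 | hj0
    · haveI := ModuleCat.subsingleton_of_isZero (T.isZero_of_isStrictlyGE 0 j hj0)
      exact ⟨0, Subsingleton.elim _ _⟩
    obtain ⟨k, rfl⟩ : ∃ k : ℕ, j = k := ⟨j.toNat, by omega⟩
    obtain ⟨e⟩ := ExtCechLib.nonempty_extCechH_equiv sJ.toList k M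
    rw [hJ] at e
    obtain ⟨z, hz⟩ := DMod.exists_cycle (K := T) (j := (k : ℤ)) (k := (k : ℤ) + 1) (by simp) x hx
    have h0 : T.homologyπ k (f • z) = 0 := by
      rw [map_smul]
      exact e.injective (by rw [map_smul, hf k (by omega), map_zero])
    obtain ⟨y, hy⟩ := (DMod.homologyπ_eq_zero_iff (K := T) (j := (k : ℤ)) (i := (k : ℤ) - 1) (by simp) _).1 h0
    exact ⟨y, by rw [hy, map_smul, hz]⟩
  have key := smul_homology_homCx P T (fun p => by haveI := hPfree p; infer_instance) (d : ℤ) i f hT (l' x)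
  obtain ⟨k, hk⟩ := Nat.le.dest (show ((d : ℤ) + i + 1).toNat ≤ d + s + 1 by omega)
  rw [← hk, pow_add, mul_comm, mul_smul]
  refine l'.injective ?_
  rw [map_smul, map_smul, key, smul_zero, map_zero]

end Groth.Agent.Bootstrap27
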