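import Groth.Prelude.Def_Formal2
import Groth.Agent.Lib.Bootstrap27.CplKill
import Groth.Agent.Lib.RGamma27.Adj

/-!
# The derived completion only sees the torsion along `J ⊔ I`
-/

set_option autoImplicit false
universe u

open CategoryTheory

attribute [local instance] HasDerivedCategory.standard

noncomputable section

namespace Groth.Agent.Bootstrap27

variable {A : Type u} [CommRing A] [IsNoetherianRing A]

/-- Derived completion along `I` inverts `RΓ_I K → K`. -/
theorem nonempty_completion_RgammaI (I : Ideal A) [DRing.HasRgammaI I] [DRing.HasDerivedCompletion I] (K : Dual.D A) :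
    Nonempty (((DRing.derivedCompletion I).obj ((DRing.RgammaI I).obj K)).obj ≅
      ((DRing.derivedCompletion I).obj K).obj) := by
  haveI : DTen.HasLTen A := KFlat.DT.hasLTen
  haveI : DTen.HasRHom A := KFlat.HomD.hasRHom A
  obtain ⟨sI, hsI⟩ : I.FG := IsNoetherian.noetherian I
  have hI : Ideal.span {y : A | y ∈ sI.toList} = I := by rw [← hsI]; congr 1; ext; simp
  let C := DerivedCategory.Q.obj (DerCA.extCech (ModuleCat.of A A) sI.toList)
  obtain ⟨eC⟩ := RGamma27.cech_iso (I := I) (ModuleCat.of A A) sI.toList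
    (fun g hg => hI ▸ Ideal.subset_span hg) (hI.ge.trans Ideal.le_radical)
  have hC : ∀ j : ℤ, LocCoh.IsPowerTorsion I (Dual.HD A C j) := fun j =>
    RGamma27.isPowerTorsion_HD_iso I eC.symm j (RGamma27.isPowerTorsion_RgammaI I _ j)
  haveI : IsIso ((DTen.RHomR A C).map ((DRing.RgammaIε I).app K)) :=
    DualDCpl27.isIso_rhomR_map I hC _ fun T hT => RGamma27.comp_ε_bijective I T K hT
  obtain ⟨K₁, η₁, hη₁, ⟨e₁⟩⟩ := DCpl.nonempty_cpl_iso_rhom sI.toList ((DRing.RgammaI I).obj K)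
  obtain ⟨K₂, η₂, hη₂, ⟨e₂⟩⟩ := DCpl.nonempty_cpl_iso_rhom sI.toList K
  obtain ⟨c₁, -⟩ := DCpl.nonempty_iso_of_isCpl I {g | g ∈ sI.toList} hI hη₁
  obtain ⟨c₂, -⟩ := DCpl.nonempty_iso_of_isCpl I {g | g ∈ sI.toList} hI hη₂
  exact ⟨c₁ ≪≫ e₁ ≪≫ asIso ((DTen.RHomR A C).map ((DRing.RgammaIε I).app K)) ≪≫ e₂.symm ≪≫ c₂.symm⟩

omit [IsNoetherianRing A] in
theorem kill_of_equiv {X Y : Type u} [AddCommGroup X] [Module A X] [AddCommGroup Y] [Module A Y]
    (l : X ≃ₗ[A] Y) (a : A) (h : ∀ y : Y, a • y = 0) (x : X) : a • x = 0 :=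
  l.injective (by rw [map_smul, map_zero, h])

set_option maxHeartbeats 1000000 in
/-- Variant of `smul_HD_derivedCompletion` seeing only `H_{J ⊔ I}`. -/
theorem smul_HD_derivedCompletion_sup (I J : Ideal A) [DRing.HasRgammaI J] [DRing.HasDerivedCompletion I] (d : ℕ)
    (hcd : LocCoh.CdLE A I d) (M : Type u) [AddCommGroup M] [Module A M] (s : ℕ) (f : A)
    (hf : ∀ j : ℕ, j ≤ d + s → ∀ x : LocCoh.H (J ⊔ I) j M, f • x = 0) (i : ℤ) (hi : i ≤ s)
    (x : Dual.HD A ((DRing.derivedCompletion I).obj ((DRing.RgammaI J).obj (Dual.inD A M))).obj i) :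
    f ^ (d + s + 1) • x = 0 := by
  haveI : DRing.HasRgammaI I := RGamma27.hasRgammaI I
  haveI : DRing.HasRgammaI (J ⊔ I) := RGamma27.hasRgammaI (J ⊔ I)
  obtain ⟨e₀⟩ := RGamma27.comp_iso J I (Dual.inD A M)
  obtain ⟨e₁⟩ := nonempty_completion_RgammaI I ((DRing.RgammaI J).obj (Dual.inD A M))
  have e₂ : ((DRing.derivedCompletion I).obj ((DRing.RgammaI I).obj ((DRing.RgammaI J).obj (Dual.inD A M)))).obj ≅
      ((DRing.derivedCompletion I).obj ((DRing.RgammaI (J ⊔ I)).obj (Dual.inD A M))).obj :=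
    (ObjectProperty.ι _).mapIso ((DRing.derivedCompletion I).mapIso e₀)
  have l : Dual.HD A ((DRing.derivedCompletion I).obj ((DRing.RgammaI J).obj (Dual.inD A M))).obj i ≃ₗ[A]
      Dual.HD A ((DRing.derivedCompletion I).obj ((DRing.RgammaI (J ⊔ I)).obj (Dual.inD A M))).obj i :=
    ((DerivedCategory.homologyFunctor (ModuleCat.{u} A) i).mapIso (e₁.symm ≪≫ e₂)).toLinearEquiv
  exact kill_of_equiv l (f ^ (d + s + 1)) (smul_HD_derivedCompletion I (J ⊔ I) d hcd M s f hf i hi) x

omit [IsNoetherianRing A] in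
/-- `dim (A/p)_q` is the dimension of the interval `[p, q]`. -/
theorem krullDim_Icc_eq_dimBetween (p q : PrimeSpectrum A) :
    Order.krullDim (Set.Icc p q) = Formal2.dimBetween A p.asIdeal q.asIdeal := by
  let R := Localization.AtPrime q.asIdeal
  rw [Formal2.dimBetween, ringKrullDim_quotient]
  have hdisj : ∀ r : PrimeSpectrum A, r ≤ q → Disjoint (q.asIdeal.primeCompl : Set A) (r.asIdeal : Set A) :=
    fun r hr => Set.disjoint_left.2 fun x hx hxr => hx (hr hxr)
  have hle : ∀ P : Ideal R, P.IsPrime → P.comap (algebraMap A R) ≤ q.asIdeal := fun P hP a ha => by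
    by_contra h
    exact hP.ne_top (Ideal.eq_top_of_isUnit_mem _ (Ideal.mem_comap.1 ha)
      (IsLocalization.map_units R (⟨a, h⟩ : q.asIdeal.primeCompl)))
  let φ : PrimeSpectrum.zeroLocus (p.asIdeal.map (algebraMap A R) : Set R) ≃o Set.Icc p q :=
    { toFun := fun P => ⟨PrimeSpectrum.comap (algebraMap A R) P.1, Ideal.map_le_iff_le_comap.1 P.2,
        hle P.1.asIdeal P.1.isPrime⟩
      invFun := fun r => ⟨⟨r.1.asIdeal.map (algebraMap A R),
        IsLocalization.isPrime_of_isPrime_disjoint q.asIdeal.primeCompl R _ r.1.isPrime (hdisj r.1 r.2.2)⟩,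
        Ideal.map_mono r.2.1⟩
      left_inv := fun P => Subtype.ext (PrimeSpectrum.ext (IsLocalization.map_comap q.asIdeal.primeCompl R P.1.asIdeal))
      right_inv := fun r => Subtype.ext (PrimeSpectrum.ext (IsLocalization.comap_map_of_isPrime_disjoint
        q.asIdeal.primeCompl R r.1.isPrime (hdisj r.1 r.2.2)))
      map_rel_iff' := fun {a b} => ⟨fun h => by
        show a.1.asIdeal ≤ b.1.asIdeal
        rw [← IsLocalization.map_comap q.asIdeal.primeCompl R a.1.asIdeal,
          ← IsLocalization.map_comap q.asIdeal.primeCompl R b.1.asIdeal]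
        exact Ideal.map_mono h, fun h => Ideal.comap_mono h⟩ }
  exact (Order.krullDim_eq_of_orderIso φ).symm

end Groth.Agent.Bootstrap27
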