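import Groth.Agent.Lib.InjHull.Coextend
import Mathlib.RingTheory.TensorProduct.Free
import Mathlib.RingTheory.Polynomial.Basic
import Mathlib.Algebra.Polynomial.Basis
import Mathlib.Algebra.Homology.ShortComplex.ModuleCat
import Mathlib.CategoryTheory.Abelian.Injective.Dimension

/-!
# A module over `A[X]` which is injective over `A` has injective dimension at most one
-/

set_option autoImplicit false
universe u

open CategoryTheory Polynomial TensorProduct

noncomputable section

namespace Groth.Agent.PolyInj27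

variable (A : Type u) [CommRing A]

theorem exists_shortExact (M : Type u) [AddCommGroup M] [Module A M] [Module A[X] M] [IsScalarTower A A[X] M]
    (hM : Module.Injective A M) :
    ∃ S : ShortComplex (ModuleCat.{u} A[X]), S.ShortExact ∧ Injective S.X₂ ∧ Injective S.X₃ ∧
      S.X₁ = ModuleCat.of A[X] M := by
  classical
  let J := (ModuleCat.coextendScalars (algebraMap A A[X])).obj (ModuleCat.of A M)
  have hJ : Injective (ModuleCat.of A[X] J) :=
    (Module.injective_iff_injective_object A[X] J).1 (InjHullLib.injective_coextend hM)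
  let θ := InjHullLib.coextendToHom (A := A) (B := A[X]) (E := M)
  have hθ : Function.Bijective θ := InjHullLib.coextendToHom_bijective
  let Θ := AddEquiv.ofBijective θ hθ
  have hsm : ∀ (x : J) (s b : A[X]), θ (s • x) b = θ x (b * s) := InjHullLib.coextendToHom_smul
  let e : M → A[X] →ₗ[A] M := fun n => (LinearMap.toSpanSingleton A[X] M n).restrictScalars A
  have hι : ∀ n, θ (Θ.symm (e n)) = e n := fun n => Θ.apply_symm_apply _
  let ι : M →ₗ[A[X]] J :=
    { toFun := fun n => Θ.symm (e n)
      map_add' := fun n n' => hθ.1 (by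
        rw [map_add θ, hι, hι, hι]
        exact LinearMap.ext fun p => smul_add p n n')
      map_smul' := fun s n => hθ.1 (LinearMap.ext fun p => by
        rw [RingHom.id_apply, hsm, hι, hι]
        show p • s • n = (p * s) • n
        rw [mul_smul]) }
  let d₀ : J → A[X] →ₗ[A] M := fun x =>
    (θ x) ∘ₗ LinearMap.mulRight A X - (Module.toModuleEnd A (S := A[X]) M X) ∘ₗ θ x
  have hd₀ : ∀ x p, d₀ x p = θ x (p * X) - (X : A[X]) • θ x p := fun _ _ => rfl
  have hd : ∀ x p, θ (Θ.symm (d₀ x)) p = θ x (p * X) - (X : A[X]) • θ x p := fun x p => by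
    rw [show θ (Θ.symm (d₀ x)) = d₀ x from Θ.apply_symm_apply _, hd₀]
  let d : J →ₗ[A[X]] J :=
    { toFun := fun x => Θ.symm (d₀ x)
      map_add' := fun x y => hθ.1 (LinearMap.ext fun p => by
        rw [map_add θ, LinearMap.add_apply, hd, hd, hd, map_add θ, LinearMap.add_apply, LinearMap.add_apply, smul_add]
        abel)
      map_smul' := fun s x => hθ.1 (LinearMap.ext fun p => by
        rw [RingHom.id_apply, hsm, hd, hd, hsm, hsm, mul_assoc, mul_assoc, mul_comm X s]) }
  have hker : ∀ n, d (ι n) = 0 := fun n => hθ.1 (LinearMap.ext fun p => by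
    show θ (Θ.symm (d₀ (ι n))) p = θ 0 p
    rw [hd, map_zero]
    show θ (Θ.symm (e n)) (p * X) - (X : A[X]) • θ (Θ.symm (e n)) p = 0
    rw [hι, sub_eq_zero]
    show (p * X) • n = (X : A[X]) • p • n
    rw [mul_comm, mul_smul])
  have hinj : Function.Injective ι := fun n n' h => by
    have h' : θ (Θ.symm (e n)) 1 = θ (Θ.symm (e n')) 1 := congrArg (fun x => θ x 1) h
    rw [hι, hι] at h'
    have h'' : (1 : A[X]) • n = (1 : A[X]) • n' := h'
    rwa [one_smul, one_smul] at h''
  have hexact : Function.Exact ι d := fun x => by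
    refine ⟨fun hx => ⟨θ x 1, hθ.1 (LinearMap.ext fun p => ?_)⟩, by rintro ⟨n, rfl⟩; exact hker n⟩
    have hX : ∀ p, θ x (p * X) = (X : A[X]) • θ x p := fun p => by
      have h1 := hd x p
      rw [show Θ.symm (d₀ x) = d x from rfl, hx, map_zero, LinearMap.zero_apply] at h1
      exact sub_eq_zero.1 h1.symm
    show θ (Θ.symm (e (θ x 1))) p = θ x p
    rw [hι]
    show p • θ x 1 = θ x p
    induction p using Polynomial.induction_on with
    | C a =>
      rw [show (C a : A[X]) = a • (1 : A[X]) by rw [smul_eq_C_mul, mul_one], map_smul, smul_assoc, one_smul]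
    | add p q hp hq => rw [add_smul, map_add, hp, hq]
    | monomial n a ih =>
      rw [show (C a * X ^ (n + 1) : A[X]) = C a * X ^ n * X by ring, hX, ← ih, ← mul_smul,
        mul_comm X (C a * X ^ n)]
  have hsurj : Function.Surjective d := fun y => by
    let c : ℕ → M := fun n => Nat.rec 0 (fun k r => (X : A[X]) • r + θ y (X ^ k)) n
    let φ : A[X] →ₗ[A] M := (Polynomial.basisMonomials A).constr A c
    have hφ : ∀ n, φ (X ^ n) = c n := fun n => by
      have h := (Polynomial.basisMonomials A).constr_basis A c n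
      rwa [show (Polynomial.basisMonomials A) n = X ^ n by
        rw [coe_basisMonomials]; exact (X_pow_eq_monomial n).symm] at h
    refine ⟨Θ.symm φ, hθ.1 (LinearMap.ext fun p => ?_)⟩
    show θ (Θ.symm (d₀ (Θ.symm φ))) p = θ y p
    rw [hd, show θ (Θ.symm φ) = φ from Θ.apply_symm_apply _]
    induction p using Polynomial.induction_on' with
    | add p q hp hq =>
      rw [add_mul, map_add φ, map_add φ, smul_add, map_add (θ y), ← hp, ← hq]
      abel
    | monomial n a =>
      rw [← C_mul_X_pow_eq_monomial, ← smul_eq_C_mul, smul_mul_assoc, map_smul, map_smul, map_smul, ← pow_succ,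
        hφ, hφ]
      show a • ((X : A[X]) • c n + θ y (X ^ n)) - _ = _
      rw [smul_add, smul_comm a (X : A[X])]
      abel
  let S : ShortComplex (ModuleCat.{u} A[X]) := ShortComplex.mk (ModuleCat.ofHom ι) (ModuleCat.ofHom d)
    (ModuleCat.hom_ext (LinearMap.ext fun n => hker n))
  exact ⟨S, ModuleCat.shortComplex_shortExact S hexact hinj hsurj, hJ, hJ, rfl⟩

theorem injective_polynomial_tensor [IsNoetherianRing A] (E : Type u) [AddCommGroup E] [Module A E]
    (hE : Module.Injective A E) : Module.Injective A (A[X] ⊗[A] E) := by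
  classical
  let e₁ : (A[X] ⊗[A] E) ≃ₗ[A] (ℕ →₀ E) := TensorProduct.equivFinsuppOfBasisLeft (Polynomial.basisMonomials A)
  let e₂ : (ℕ →₀ E) ≃ₗ[A] (ULift.{u} ℕ →₀ E) := Finsupp.domLCongr Equiv.ulift.symm
  exact InjHullLib.injective_of_linearEquiv ((e₁.trans e₂).trans (finsuppLEquivDirectSum A E (ULift.{u} ℕ))).symm
    (InjHullLib.injective_directSum _ fun _ => hE)

theorem hasInjectiveDimensionLT_two [IsNoetherianRing A] (E : Type u) [AddCommGroup E] [Module A E]
    (hE : Module.Injective A E) :
    HasInjectiveDimensionLT (ModuleCat.of A[X] (A[X] ⊗[A] E)) 2 := by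
  obtain ⟨S, hS, h2, h3, h1⟩ := exists_shortExact A (A[X] ⊗[A] E) (injective_polynomial_tensor A E hE)
  rw [← h1]
  exact hS.hasInjectiveDimensionLT_X₁ 1 inferInstance inferInstance

end Groth.Agent.PolyInj27
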